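import Cfsg.Agent.MetaTwo.Main
import Cfsg.Agent.MetaTwo.Iso
import Cfsg.Agent.RankTwoResistant.Basic
import Mathlib.GroupTheory.SpecificGroups.Cyclic.Basic

/-!
Automorphisms of metacyclic `p`-groups: outside the homocyclic and maximal class cases the
automorphisms of order prime to `p` form abelian groups of exponent dividing `p - 1`.
-/

set_option autoImplicit false
set_option linter.style.haveILetI false

open scoped commutatorElement

namespace CfsgLib.MetaAut

universe u

variable {p : ℕ} [hp : Fact p.Prime]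

/-- A cyclic group killed by `e` has order at most `e`. -/
lemma card_le_of_cyclic {C : Type*} [Group C] [Finite C] [IsCyclic C] {e : ℕ} (he : 0 < e)
    (h : ∀ x : C, x ^ e = 1) : Nat.card C ≤ e := by
  obtain ⟨g, hg⟩ := IsCyclic.exists_generator (α := C)
  rw [← orderOf_eq_card_of_forall_mem_zpowers hg]
  exact orderOf_le_of_pow_eq_one he (h g)

/-- A metacyclic group of exponent dividing `e` has order at most `e²`. -/
theorem card_le_sq {R : Type*} [Group R] [Finite R] (hm : Cfsg.IsMetacyclic R) {e : ℕ} (he : 0 < e)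
    (h : ∀ x : R, x ^ e = 1) : Nat.card R ≤ e ^ 2 := by
  obtain ⟨N, hN, hNc, hQc⟩ := hm
  haveI := hN
  haveI := hNc
  haveI := hQc
  rw [Subgroup.card_eq_card_quotient_mul_card_subgroup N, pow_two]
  refine Nat.mul_le_mul (card_le_of_cyclic he fun x => ?_)
    (card_le_of_cyclic he fun x => Subtype.ext (by simpa using h x))
  obtain ⟨r, rfl⟩ := QuotientGroup.mk_surjective x
  rw [← QuotientGroup.mk_pow, h, QuotientGroup.mk_one]

lemma isMetacyclic_sub {R : Type*} [Group R] (hm : Cfsg.IsMetacyclic R) (H : Subgroup R) :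
    Cfsg.IsMetacyclic H := by
  obtain ⟨N, hN, h1, h2⟩ := CfsgLib.MetaTwo.isMetacyclic_subgroup H hm
  exact ⟨N, hN, h1, h2⟩

lemma isMetacyclic_quot {R : Type*} [Group R] (hm : Cfsg.IsMetacyclic R) (K : Subgroup R) [K.Normal] :
    Cfsg.IsMetacyclic (R ⧸ K) := by
  obtain ⟨N, hN, hNc, hQc⟩ := hm
  haveI := hN
  haveI := hNc
  haveI := hQc
  haveI : (N.map (QuotientGroup.mk' K)).Normal := hN.map _ (QuotientGroup.mk'_surjective K)
  refine ⟨N.map (QuotientGroup.mk' K), inferInstance,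
    isCyclic_of_surjective _ ((QuotientGroup.mk' K).subgroupMap_surjective N), ?_⟩
  refine isCyclic_of_surjective (QuotientGroup.map N (N.map (QuotientGroup.mk' K)) (QuotientGroup.mk' K)
    (Subgroup.le_comap_map _ _)) ?_
  intro v
  obtain ⟨w, rfl⟩ := QuotientGroup.mk_surjective v
  obtain ⟨r, rfl⟩ := QuotientGroup.mk_surjective w
  exact ⟨(r : R ⧸ N), rfl⟩

lemma isCyclic_commutator {R : Type*} [Group R] (hm : Cfsg.IsMetacyclic R) : IsCyclic ↥(commutator R) := by
  obtain ⟨N, hN, hNc, hQc⟩ := hm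
  haveI := hN
  haveI := hNc
  haveI := hQc
  have hle : commutator R ≤ N := Subgroup.Normal.quotient_commutative_iff_commutator_le.1
    ⟨⟨fun a b => (IsCyclic.isMulCommutative (α := R ⧸ N)).is_comm.comm a b⟩⟩
  exact isCyclic_of_injective (Subgroup.inclusion hle) (Subgroup.inclusion_injective hle)

/-- Two commuting elements of order `e` with trivially intersecting cyclic groups. -/
def Pair (R : Type*) [Group R] (e : ℕ) : Prop :=
  ∃ u v : R, Commute u v ∧ orderOf u = e ∧ orderOf v = e ∧ Subgroup.zpowers u ⊓ Subgroup.zpowers v = ⊥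

/-- The homomorphism from `ZMod e` given by an element killed by `e`. -/
noncomputable def zmodHom {R : Type*} [Group R] {e : ℕ} [NeZero e] (u : R) (hu : u ^ e = 1) :
    Multiplicative (ZMod e) →* R :=
  MonoidHom.mk' (fun i => u ^ (Multiplicative.toAdd i).val) fun i j => by
    rw [← pow_add, toAdd_mul, ZMod.val_add]
    exact (pow_mod_orderOf u _).symm.trans ((congrArg (u ^ ·) (Nat.mod_mod_of_dvd _
      (orderOf_dvd_of_pow_eq_one hu))).trans (pow_mod_orderOf u _))

lemma Pair.card {R : Type*} [Group R] [Finite R] {e : ℕ} (h : Pair R e) : e ^ 2 ≤ Nat.card R := by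
  obtain ⟨u, v, -, hu, hv, hd⟩ := h
  rw [pow_two]
  calc e * e = Nat.card (Subgroup.zpowers u × Subgroup.zpowers v) := by
        rw [Nat.card_prod, Nat.card_zpowers, Nat.card_zpowers, hu, hv]
    _ ≤ Nat.card R := Nat.card_le_card_of_injective (fun x => (x.1 : R) * (x.2 : R))
        (Subgroup.mul_injective_of_disjoint (disjoint_iff.2 hd))

theorem Pair.equiv {R : Type*} [Group R] [Finite R] {e : ℕ} [NeZero e] (h : Pair R e)
    (hcard : Nat.card R ≤ e ^ 2) : Nonempty (R ≃* Multiplicative (ZMod e) × Multiplicative (ZMod e)) := by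
  obtain ⟨u, v, huv, hu, hv, hd⟩ := h
  have hup : u ^ e = 1 := hu ▸ pow_orderOf_eq_one u
  have hvp : v ^ e = 1 := hv ▸ pow_orderOf_eq_one v
  set f := MonoidHom.noncommCoprod (zmodHom u hup) (zmodHom v hvp) fun i j => huv.pow_pow _ _
  have hinj : Function.Injective f := by
    rw [injective_iff_map_eq_one]
    rintro ⟨i, j⟩ hij
    change u ^ (Multiplicative.toAdd i).val * v ^ (Multiplicative.toAdd j).val = 1 at hij
    have h1 : u ^ (Multiplicative.toAdd i).val ∈ Subgroup.zpowers u ⊓ Subgroup.zpowers v :=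
      ⟨Subgroup.npow_mem_zpowers u _, by
        show _ ∈ Subgroup.zpowers v
        rw [eq_inv_of_mul_eq_one_left hij]; exact (Subgroup.zpowers v).inv_mem (Subgroup.npow_mem_zpowers v _)⟩
    rw [hd, Subgroup.mem_bot] at h1
    rw [h1, one_mul] at hij
    rw [← orderOf_dvd_iff_pow_eq_one, hu] at h1
    rw [← orderOf_dvd_iff_pow_eq_one, hv] at hij
    have hi : (Multiplicative.toAdd i).val = 0 := Nat.eq_zero_of_dvd_of_lt h1 (ZMod.val_lt _)
    have hj : (Multiplicative.toAdd j).val = 0 := Nat.eq_zero_of_dvd_of_lt hij (ZMod.val_lt _)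
    rw [ZMod.val_eq_zero] at hi hj
    exact Prod.ext (toAdd_eq_zero.1 hi) (toAdd_eq_zero.1 hj)
  have hc : Nat.card (Multiplicative (ZMod e) × Multiplicative (ZMod e)) = e ^ 2 := by
    rw [Nat.card_prod, Nat.card_congr Multiplicative.toAdd, Nat.card_zmod, pow_two]
  exact ⟨(MulEquiv.ofBijective f (hinj.bijective_of_nat_card_le (hcard.trans hc.ge))).symm⟩

/-- An abelian `p`-group of exponent `p^k` whose top powers do not lie in one line has a pair. -/
theorem pair_of_top {R : Type*} [Group R] [Finite R] (hR : IsPGroup p R) (hab : ∀ a b : R, a * b = b * a)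
    {k : ℕ} (hexp : ∀ x : R, x ^ p ^ (k + 1) = 1) {u v : R} (hu : u ^ p ^ k ≠ 1)
    (hv : v ^ p ^ k ∉ Subgroup.zpowers (u ^ p ^ k)) : Pair R (p ^ (k + 1)) := by
  have hord : ∀ x : R, x ^ p ^ k ≠ 1 → orderOf x = p ^ (k + 1) := fun x hx =>
    orderOf_eq_prime_pow hx (hexp x)
  have hv1 : v ^ p ^ k ≠ 1 := fun e => hv (e ▸ one_mem _)
  refine ⟨u, v, hab u v, hord u hu, hord v hv1, ?_⟩
  by_contra hne
  haveI : Nontrivial ↥(Subgroup.zpowers u ⊓ Subgroup.zpowers v) := (Subgroup.nontrivial_iff_ne_bot _).2 hne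
  obtain ⟨n, hn⟩ := IsPGroup.iff_card.1 (hR.to_subgroup (Subgroup.zpowers u ⊓ Subgroup.zpowers v))
  have h1 : p ∣ Nat.card ↥(Subgroup.zpowers u ⊓ Subgroup.zpowers v) := by
    rcases n with _ | n
    · have := Finite.one_lt_card (α := ↥(Subgroup.zpowers u ⊓ Subgroup.zpowers v))
      rw [hn, pow_zero] at this; omega
    · rw [hn, pow_succ]; exact dvd_mul_left _ _
  obtain ⟨⟨t, htu, htv⟩, ht⟩ := exists_prime_orderOf_dvd_card' p h1
  rw [← Subgroup.orderOf_coe] at ht
  change orderOf t = p at ht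
  -- the only line of order `p` in a cyclic group
  have hline : ∀ x : R, x ^ p ^ k ≠ 1 → t ∈ Subgroup.zpowers x →
      Subgroup.zpowers t = Subgroup.zpowers (x ^ p ^ k) := fun x hx htx => by
    obtain ⟨i, rfl⟩ := Subgroup.mem_zpowers_iff.1 htx
    have hd : (p : ℤ) ^ (k + 1) ∣ i * p := by
      have h2 : (x ^ i) ^ p = 1 := ht ▸ pow_orderOf_eq_one _
      rw [← zpow_natCast, ← zpow_mul, ← orderOf_dvd_iff_zpow_eq_one, hord x hx] at h2
      exact_mod_cast h2
    rw [pow_succ] at hd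
    obtain ⟨j, rfl⟩ := Int.dvd_of_mul_dvd_mul_right (by exact_mod_cast hp.out.ne_zero) hd
    refine Subgroup.eq_of_le_of_card_ge (Subgroup.zpowers_le.2 (Subgroup.mem_zpowers_iff.2 ⟨j, ?_⟩)) ?_
    · rw [← zpow_natCast, ← zpow_mul, Nat.cast_pow]
    · rw [Nat.card_zpowers, Nat.card_zpowers, ht, orderOf_eq_prime (by rw [← pow_mul, ← pow_succ]; exact hexp x) hx]
  exact hv ((hline v hv1 htv).symm.trans (hline u hu htu) ▸ Subgroup.mem_zpowers _)

/-- The exponent data of a nontrivial finite `p`-group. -/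
lemma exists_exp {R : Type*} [Group R] [Finite R] (hR : IsPGroup p R) [Nontrivial R] :
    ∃ k : ℕ, (∀ x : R, x ^ p ^ (k + 1) = 1) ∧ ∃ u : R, u ^ p ^ k ≠ 1 := by
  classical
  have hex : ∃ n, ∀ x : R, x ^ p ^ n = 1 := by
    obtain ⟨n, hn⟩ := IsPGroup.iff_card.1 hR
    exact ⟨n, fun x => by rw [← hn]; exact pow_card_eq_one'⟩
  obtain ⟨k, hk⟩ : ∃ k, Nat.find hex = k + 1 := by
    refine Nat.exists_eq_succ_of_ne_zero fun h0 => ?_
    obtain ⟨x, hx⟩ := exists_ne (1 : R)
    exact hx (by simpa [h0] using Nat.find_spec hex x)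
  refine ⟨k, hk ▸ Nat.find_spec hex, ?_⟩
  have := Nat.find_min hex (show k < Nat.find hex by omega)
  push Not at this
  exact this

/-- A subgroup of exponent `p` of a metacyclic group has order at most `p²`. -/
lemma card_le_of_exp {R : Type*} [Group R] [Finite R] (hm : Cfsg.IsMetacyclic R) {H : Subgroup R}
    (h : ∀ x ∈ H, x ^ p = 1) : Nat.card H ≤ p ^ 2 :=
  card_le_sq (isMetacyclic_sub hm H) hp.out.pos fun x => Subtype.ext (by simpa using h x x.2)

end CfsgLib.MetaAut
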