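import Cfsg.Agent.MetaAut.Basic
import Cfsg.Agent.Fusion.EssentialSquare
import Cfsg.Agent.PLocalBasics.AutRankTwo

/-!
Automorphisms of order prime to `p` of metacyclic `p`-groups, `p` odd.
-/

set_option autoImplicit false
set_option linter.style.haveILetI false

namespace CfsgLib.MetaAut

variable {p : ℕ} [hp : Fact p.Prime]

lemma mulAut_pow_pred {C : Type*} [Group C] [Finite C] (hc : Nat.card C = p) :
    (∀ a b : MulAut C, a * b = b * a) ∧ ∀ a : MulAut C, a ^ (p - 1) = 1 := by
  haveI : IsCyclic C := isCyclic_of_prime_card hc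
  refine ⟨CfsgLib.Fusion.mulAut_comm_of_cyclic, fun a => ?_⟩
  have h := pow_card_eq_one' (x := a)
  rwa [IsCyclic.card_mulAut, hc, Nat.totient_prime hp.out] at h

theorem abelian_of_odd {S : Type*} [Group S] [Finite S] (hp2 : p ≠ 2) (hS : IsPGroup p S)
    (hm : Cfsg.IsMetacyclic S)
    (hh : ∀ e : ℕ, 2 ≤ e → ¬ Nonempty (S ≃* Multiplicative (ZMod e) × Multiplicative (ZMod e)))
    (H : Subgroup (MulAut S)) (hH : (Nat.card H).Coprime p) : IsMulCommutative H ∧ ∀ h ∈ H, h ^ (p - 1) = 1 := by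
  classical
  haveI : Finite (MulAut S) := Finite.of_injective (fun α : MulAut S => (α : S → S)) DFunLike.coe_injective
  have hco : ∀ a ∈ H, (orderOf a).Coprime p := fun a ha =>
    hH.coprime_dvd_left (Subgroup.orderOf_dvd_natCard H ha)
  suffices hkey : ∀ a ∈ H, ∀ b ∈ H, a * b * a⁻¹ * b⁻¹ = 1 ∧ a ^ (p - 1) = 1 by
    refine ⟨⟨⟨fun a b => Subtype.ext ?_⟩⟩, fun a ha => (hkey a ha a ha).2⟩
    show (a : MulAut S) * b = b * a
    exact commutatorElement_eq_one_iff_mul_comm.1 (hkey a a.2 b b.2).1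
  rcases subsingleton_or_nontrivial S with hsub | hnt
  · intro a _ b _
    exact ⟨MulEquiv.ext fun x => hsub.elim _ _, MulEquiv.ext fun x => hsub.elim _ _⟩
  obtain ⟨W, hWch, hWne, hWexp, hdet⟩ := CfsgLib.RankTwoResistant.exists_omega (p := p) hp2 hS hnt
  haveI := hWch
  have hWp := hS.to_subgroup W
  obtain ⟨n, hn⟩ := IsPGroup.iff_card.1 hWp
  have hW2 : Nat.card W ≤ p ^ 2 := card_le_of_exp hm hWexp
  rw [hn, Nat.pow_le_pow_iff_right hp.out.one_lt] at hW2
  have hn0 : n ≠ 0 := fun e => hWne (Subgroup.eq_bot_of_card_eq W (by rw [hn, e, pow_zero]))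
  set r := MulAut.characteristic W with hr
  rcases (show n = 1 ∨ n = 2 by omega) with rfl | rfl
  · obtain ⟨hc, hpw⟩ := mulAut_pow_pred (hn.trans (pow_one p))
    have hone : ∀ γ ∈ H, r γ = 1 → γ = 1 := fun γ hγ e => hdet γ (hco γ hγ) fun x hx => by
      have h1 := congrArg Subtype.val (DFunLike.congr_fun e (⟨x, hx⟩ : W))
      exact h1
    intro a ha b hb
    refine ⟨hone _ (H.mul_mem (H.mul_mem (H.mul_mem ha hb) (H.inv_mem ha)) (H.inv_mem hb)) ?_,
      hone _ (H.pow_mem ha _) (by rw [map_pow, hpw])⟩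
    rw [map_mul, map_mul, map_mul, map_inv, map_inv, hc (r a) (r b)]
    group
  -- a plane: find an invariant line
  obtain ⟨L, hLch, hLcard⟩ : ∃ L : Subgroup W, (∀ σ : MulAut S, L.map (r σ).toMonoidHom = L) ∧ Nat.card L = p := by
    -- a characteristic subgroup of order `p` of `S` lies in `W`
    suffices ∃ L₀ : Subgroup S, L₀.Characteristic ∧ Nat.card L₀ = p by
      obtain ⟨L₀, hL₀, hc₀⟩ := this
      haveI := hL₀
      haveI : L₀.Normal := inferInstance
      have hcen : L₀ ≤ Subgroup.center S := CfsgLib.PLocalBasics.le_center_of_card_le hS inferInstance hc₀.le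
      have hLp : ∀ x ∈ L₀, x ^ p = 1 := fun x hx => by
        have h := pow_card_eq_one' (x := (⟨x, hx⟩ : L₀))
        rw [hc₀] at h
        exact congrArg Subtype.val h
      have hle : L₀ ≤ W := by
        have hexp : ∀ x ∈ W ⊔ L₀, x ^ p = 1 := fun x hx => by
          obtain ⟨w, hw, l, hl, rfl⟩ := Subgroup.mem_sup_of_normal_right.1 hx
          rw [(show Commute w l from Subgroup.mem_center_iff.1 (hcen hl) w).mul_pow, hWexp w hw, hLp l hl, one_mul]
        exact (Subgroup.eq_of_le_of_card_ge le_sup_left ((card_le_of_exp hm hexp).trans hn.ge)).ge.trans'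
          le_sup_right
      refine ⟨L₀.subgroupOf W, fun σ => ?_, by rw [Nat.card_congr (Subgroup.subgroupOfEquivOfLe hle).toEquiv, hc₀]⟩
      have hle' : (L₀.subgroupOf W).map (r σ).toMonoidHom ≤ L₀.subgroupOf W := by
        rintro _ ⟨w, hw, rfl⟩
        exact Subgroup.characteristic_iff_le_comap.1 hL₀ σ hw
      exact Subgroup.eq_of_le_of_card_ge hle' (Subgroup.card_map_of_injective (r σ).injective).ge
    by_cases hab : ∀ a b : S, a * b = b * a
    · obtain ⟨k, hexp, u, hu⟩ := exists_exp hS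
      let top : S →* S :=
        { toFun := fun a => a ^ p ^ k, map_one' := one_pow _, map_mul' := fun a b => (show Commute a b from hab a b).mul_pow _ }
      refine ⟨top.range, Subgroup.characteristic_iff_le_comap.2 fun σ x ⟨y, hy⟩ => ?_, ?_⟩
      · exact ⟨σ y, by subst hy; exact (map_pow σ y (p ^ k)).symm⟩
      · have hall : ∀ v : S, v ^ p ^ k ∈ Subgroup.zpowers (u ^ p ^ k) := fun v => by
          by_contra hv
          haveI : NeZero (p ^ (k + 1)) := ⟨pow_ne_zero _ hp.out.ne_zero⟩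
          exact hh (p ^ (k + 1)) (hp.out.two_le.trans (Nat.le_self_pow k.succ_ne_zero p))
            ((pair_of_top hS hab hexp hu hv).equiv (card_le_sq hm (pow_pos hp.out.pos _) hexp))
        have hrg : top.range = Subgroup.zpowers (u ^ p ^ k) :=
          le_antisymm (by rintro _ ⟨a, rfl⟩; exact hall a) (Subgroup.zpowers_le.2 ⟨u, rfl⟩)
        rw [hrg, Nat.card_zpowers, orderOf_eq_prime (by rw [← pow_mul, ← pow_succ]; exact hexp u) hu]
    · push Not at hab
      obtain ⟨a0, b0, hab0⟩ := hab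
      haveI := isCyclic_commutator hm
      set C := commutator S
      have hCc : ∀ x ∈ C, ∀ y ∈ C, x * y = y * x := fun x hx y hy =>
        congrArg Subtype.val ((IsCyclic.isMulCommutative (α := C)).is_comm.comm (⟨x, hx⟩ : C) ⟨y, hy⟩)
      let L₀ : Subgroup S :=
        { carrier := {x | x ∈ C ∧ x ^ p = 1}
          one_mem' := ⟨C.one_mem, one_pow p⟩
          mul_mem' := fun {x y} hx hy => ⟨C.mul_mem hx.1 hy.1, by
            rw [(show Commute x y from hCc x hx.1 y hy.1).mul_pow, hx.2, hy.2, one_mul]⟩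
          inv_mem' := fun {x} hx => ⟨C.inv_mem hx.1, by rw [inv_pow, hx.2, inv_one]⟩ }
      have hCne : C ≠ ⊥ := fun h => hab0 (commutatorElement_eq_one_iff_mul_comm.1 (Subgroup.mem_bot.1
        (h ▸ Subgroup.commutator_mem_commutator (Subgroup.mem_top a0) (Subgroup.mem_top b0))))
      haveI : Nontrivial C := (Subgroup.nontrivial_iff_ne_bot C).2 hCne
      refine ⟨L₀, Subgroup.characteristic_iff_le_comap.2 fun σ x hx =>
        ⟨Subgroup.characteristic_iff_le_comap.1 inferInstance σ hx.1, by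
          show (σ x) ^ p = 1
          rw [← map_pow, hx.2, map_one]⟩, le_antisymm ?_ ?_⟩
      · haveI : IsCyclic L₀ := isCyclic_of_injective (Subgroup.inclusion fun x hx => (hx : x ∈ C ∧ _).1)
          (Subgroup.inclusion_injective _)
        exact card_le_of_cyclic hp.out.pos fun x => Subtype.ext (by simpa using x.2.2)
      · obtain ⟨j, hj⟩ := IsPGroup.iff_card.1 (hS.to_subgroup C)
        have hd : p ∣ Nat.card C := by
          rcases j with _ | j
          · have := Finite.one_lt_card (α := C)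
            rw [hj, pow_zero] at this; omega
          · rw [hj, pow_succ]; exact dvd_mul_left _ _
        obtain ⟨t, ht⟩ := exists_prime_orderOf_dvd_card' p hd
        have hle : Subgroup.zpowers (t : S) ≤ L₀ := Subgroup.zpowers_le.2 ⟨t.2, by
          rw [← Subgroup.coe_pow, ← ht, pow_orderOf_eq_one, OneMemClass.coe_one]⟩
        exact (by rw [Nat.card_zpowers, Subgroup.orderOf_coe, ht] : Nat.card (Subgroup.zpowers (t : S)) = p).ge.trans
          (Subgroup.card_le_of_le hle)
  haveI : L.Normal := ⟨fun x hx g => by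
    rwa [(IsPGroup.commutative_of_card_eq_prime_sq hn) g x, mul_inv_cancel_right]⟩
  have hQcard : Nat.card (W ⧸ L) = p := by
    have h := Subgroup.card_eq_card_quotient_mul_card_subgroup L
    rw [hn, hLcard, pow_two] at h
    exact (Nat.eq_of_mul_eq_mul_right hp.out.pos h).symm
  obtain ⟨hcL, hpL⟩ := mulAut_pow_pred hLcard
  obtain ⟨hcQ, hpQ⟩ := mulAut_pow_pred hQcard
  -- the two characters
  let resL : MulAut S →* MulAut L := MonoidHom.mk'
    (fun σ => (((r σ).subgroupMap L).trans (MulEquiv.subgroupCongr (hLch σ)) : L ≃* L))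
    fun σ τ => MulEquiv.ext fun x => Subtype.ext (by
      show ((r (σ * τ)) (x : W)) = (r σ) ((r τ) (x : W))
      rw [map_mul]; rfl)
  let resQ : MulAut S →* MulAut (W ⧸ L) := MonoidHom.mk'
    (fun σ => QuotientGroup.congr L L (r σ) (hLch σ))
    fun σ τ => MulEquiv.ext fun x => by
      obtain ⟨x, rfl⟩ := QuotientGroup.mk_surjective x
      show ((r (σ * τ) x : W) : W ⧸ L) = ((r σ (r τ x) : W) : W ⧸ L)
      rw [map_mul]; rfl
  have hone : ∀ γ ∈ H, resL γ = 1 → resQ γ = 1 → γ = 1 := fun γ hγ e1 e2 => hdet γ (hco γ hγ) fun x hx => by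
    have hcoW : (orderOf (r γ)).Coprime p := (hco γ hγ).coprime_dvd_left (orderOf_map_dvd r γ)
    have hmemL : (⟨x, hx⟩ : W)⁻¹ * r γ ⟨x, hx⟩ ∈ L :=
      QuotientGroup.eq.1 (DFunLike.congr_fun e2 (QuotientGroup.mk (⟨x, hx⟩ : W))).symm
    have h1 : r γ ⟨x, hx⟩ = ⟨x, hx⟩ := CfsgLib.PLocalBasics.fixed_of_step_fixed hWp hcoW
      (congrArg Subtype.val (DFunLike.congr_fun e1 (⟨_, hmemL⟩ : L)))
    exact congrArg Subtype.val h1
  intro a ha b hb
  refine ⟨hone _ (H.mul_mem (H.mul_mem (H.mul_mem ha hb) (H.inv_mem ha)) (H.inv_mem hb)) ?_ ?_,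
    hone _ (H.pow_mem ha _) (by rw [map_pow, hpL]) (by rw [map_pow, hpQ])⟩
  · rw [map_mul, map_mul, map_mul, map_inv, map_inv, hcL (resL a) (resL b)]
    group
  · rw [map_mul, map_mul, map_mul, map_inv, map_inv, hcQ (resQ a) (resQ b)]
    group

end CfsgLib.MetaAut
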