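import Cfsg.Agent.MetaAut.Basic
import Cfsg.Agent.PLocalBasics.AutRankTwo

/-!
Odd automorphisms of metacyclic `2`-groups.
-/

set_option autoImplicit false
set_option linter.style.haveILetI false

open scoped commutatorElement

namespace CfsgLib.MetaAut

universe u

variable {S : Type u} [Group S] [Finite S]

/-- An odd automorphism stabilising a subgroup of index two of a metacyclic `2`-group is trivial. -/
theorem eq_one_of_index_two (hS : IsPGroup 2 S) (hm : Cfsg.IsMetacyclic S) {δ : MulAut S}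
    (hodd : Odd (orderOf δ)) {K : Subgroup S} (hKi : K.index = 2) (hinv : ∀ x ∈ K, δ x ∈ K) : δ = 1 := by
  haveI : Fact (Nat.Prime 2) := ⟨Nat.prime_two⟩
  haveI : K.Normal := Subgroup.normal_of_index_eq_two hKi
  set Φ := frattini S with hΦ
  have hsq : ∀ x : S, x ^ 2 ∈ Φ := fun x => CfsgLib.PGroup.pow_mem_frattini hS x
  have hQexp : ∀ q : S ⧸ Φ, q ^ 2 = 1 := fun q => by
    obtain ⟨x, rfl⟩ := QuotientGroup.mk_surjective q
    rw [← QuotientGroup.mk_pow]
    exact (QuotientGroup.eq_one_iff _).2 (hsq x)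
  have hQ4 : Nat.card (S ⧸ Φ) ≤ 4 := card_le_sq (isMetacyclic_quot hm Φ) two_pos hQexp
  have hΦK : Φ ≤ K := frattini_le_coatom (show IsCoatom K from ⟨fun h => by simp [h] at hKi, fun L hL =>
    Subgroup.index_eq_one.1 (((Nat.dvd_prime Nat.prime_two).1 (hKi ▸ Subgroup.index_dvd_of_le hL.le)).resolve_right
      fun h2 => hL.ne (Subgroup.eq_of_le_of_card_ge hL.le (by
        have a1 := Subgroup.card_mul_index K
        have a2 := Subgroup.card_mul_index L
        rw [hKi] at a1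
        rw [h2] at a2
        omega)))⟩)
  set σ : MulAut (S ⧸ Φ) := QuotientGroup.congr Φ Φ δ (Subgroup.characteristic_iff_map_eq.1 inferInstance δ)
  have hσv : ∀ x : S, σ (x : S ⧸ Φ) = ((δ x : S) : S ⧸ Φ) := fun x => rfl
  set K' := K.map (QuotientGroup.mk' Φ) with hK'
  have hK'2 : Nat.card K' ≤ 2 := by
    have h1 := Subgroup.card_mul_index K'
    have h2 : K'.index = 2 := by
      rw [hK', Subgroup.index_map_eq _ (QuotientGroup.mk'_surjective Φ) (by rw [QuotientGroup.ker_mk']; exact hΦK), hKi]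
    rw [h2] at h1
    omega
  have hfix : ∀ q ∈ K', σ q = q := by
    intro q hq
    by_cases hq1 : q = 1
    · rw [hq1, map_one]
    have hσq : σ q ∈ K' := by
      obtain ⟨x, hx, rfl⟩ := hq
      exact ⟨δ x, hinv x hx, (hσv x).symm⟩
    by_contra hne
    have hσ1 : σ q ≠ 1 := fun e => hq1 (σ.injective (e.trans (map_one σ).symm))
    have h3 : ({1, q, σ q} : Set (S ⧸ Φ)) ⊆ (K' : Set (S ⧸ Φ)) := by
      rintro x (rfl | rfl | rfl)
      exacts [K'.one_mem, hq, hσq]
    have h4 := Set.ncard_le_ncard h3 (Set.toFinite _)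
    rw [Set.ncard_eq_three.2 ⟨1, q, σ q, Ne.symm hq1, Ne.symm hσ1, Ne.symm hne, rfl⟩] at h4
    exact absurd (h4.trans (le_of_eq_of_le (Nat.card_coe_set_eq _).symm hK'2)) (by norm_num)
  have hcoσ : (orderOf σ).Coprime 2 := by
    have : ∀ n : ℕ, ∀ x : S, (σ ^ n) (x : S ⧸ Φ) = (((δ ^ n) x : S) : S ⧸ Φ) := fun n => by
      induction n with
      | zero => intro x; simp
      | succ n ih => intro x; rw [pow_succ, pow_succ, MulAut.mul_apply, MulAut.mul_apply, hσv, ih]
    refine (Nat.coprime_two_right.2 hodd).coprime_dvd_left (orderOf_dvd_of_pow_eq_one (MulEquiv.ext fun q => ?_))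
    obtain ⟨x, rfl⟩ := QuotientGroup.mk_surjective q
    rw [this, pow_orderOf_eq_one, MulAut.one_apply, MulAut.one_apply]
  refine CfsgLib.MetaTwo.eq_one_of_trivial_frattini hS hodd fun x => ?_
  have h1 : σ (x : S ⧸ Φ) = (x : S ⧸ Φ) := by
    refine CfsgLib.PLocalBasics.fixed_of_step_fixed (hS.to_quotient Φ) hcoσ (hfix _ ?_)
    refine ⟨x⁻¹ * δ x, ?_, by rw [hσv]; simp⟩
    show x⁻¹ * δ x ∈ K
    rw [Subgroup.mul_mem_iff_of_index_two hKi, inv_mem_iff]
    refine ⟨hinv x, fun h => ?_⟩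
    -- `δ` maps `K` onto itself
    have hle : K.map δ.toMonoidHom ≤ K := by rintro _ ⟨y, hy, rfl⟩; exact hinv y hy
    have heq : K.map δ.toMonoidHom = K := Subgroup.eq_of_le_of_card_ge hle
      (Subgroup.card_map_of_injective δ.injective).ge
    obtain ⟨y, hy, e⟩ := heq.ge h
    exact δ.injective e ▸ hy
  have hcomm : ∀ a b : S ⧸ Φ, a * b = b * a :=
    fun a b => by
      have hinv : ∀ c : S ⧸ Φ, c⁻¹ = c := fun c => inv_eq_of_mul_eq_one_right (by rw [← sq]; exact hQexp c)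
      rw [← hinv (a * b), mul_inv_rev, hinv, hinv]
  rw [hσv] at h1
  rw [← QuotientGroup.eq_one_iff, QuotientGroup.mk_mul, QuotientGroup.mk_inv, h1, mul_inv_cancel]

/-- Odd automorphisms of metacyclic `2`-groups are trivial outside the homocyclic and maximal class groups. -/
theorem eq_one_of_odd (hS : IsPGroup 2 S) (hm : Cfsg.IsMetacyclic S)
    (hh : ∀ e : ℕ, 2 ≤ e → ¬ Nonempty (S ≃* Multiplicative (ZMod e) × Multiplicative (ZMod e)))
    (hmax : (∃ a b : S, a * b ≠ b * a) → (commutator S).index ≠ 4) {δ : MulAut S} (hodd : Odd (orderOf δ)) :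
    δ = 1 := by
  haveI : Fact (Nat.Prime 2) := ⟨Nat.prime_two⟩
  by_contra hδ
  have hno : ∀ K : Subgroup S, K.index = 2 → (∀ x ∈ K, δ x ∈ K) → False := fun K h1 h2 =>
    hδ (eq_one_of_index_two hS hm hodd h1 h2)
  haveI : Nontrivial S := by
    obtain ⟨x, hx⟩ : ∃ x, δ x ≠ x := by
      by_contra hh'
      push Not at hh'
      exact hδ (MulEquiv.ext hh')
    exact ⟨⟨δ x, x, hx⟩⟩
  -- no equivariant map onto a group of order two
  have hnof : ∀ {M : Type u} [Group M] [Finite M] (f : S →* M), (∀ x, f (δ x) = f x) →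
      Nat.card f.range = 2 → False := fun f hf hr => hno f.ker (by rw [Subgroup.index_ker, hr]) fun x hx => by
      rw [MonoidHom.mem_ker, hf]; exact hx
  set C := commutator S with hC
  haveI : C.Characteristic := inferInstanceAs (commutator S).Characteristic
  haveI := hS.isNilpotent
  have hCne : C ≠ ⊤ := fun h => by
    have := IsSolvable.commutator_lt_top_of_nontrivial S
    exact this.ne h
  set A := S ⧸ C
  haveI : Nontrivial A := QuotientGroup.nontrivial_iff.2 hCne
  have hab : ∀ a b : A, a * b = b * a :=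
    (Subgroup.Normal.quotient_commutative_iff_commutator_le.2 (le_refl C)).is_comm.comm
  obtain ⟨k, hexp, u, hu⟩ := exists_exp (hS.to_quotient C)
  set σ : MulAut A := QuotientGroup.congr C C δ (Subgroup.characteristic_iff_map_eq.1 inferInstance δ)
  have hσv : ∀ x : S, σ (x : A) = ((δ x : S) : A) := fun x => rfl
  let top : A →* A :=
    { toFun := fun a => a ^ 2 ^ k, map_one' := one_pow _, map_mul' := fun a b => (show Commute a b from hab a b).mul_pow _ }
  have htop2 : ∀ a : A, (top a) ^ 2 = 1 := fun a => by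
    show (a ^ 2 ^ k) ^ 2 = 1
    rw [← pow_mul, ← pow_succ]; exact hexp a
  have hpair : Pair A (2 ^ (k + 1)) := by
    by_contra hnp
    have hall : ∀ v : A, v ^ 2 ^ k ∈ Subgroup.zpowers (u ^ 2 ^ k) := fun v => by
      by_contra hv
      exact hnp (pair_of_top (hS.to_quotient C) hab hexp hu hv)
    have hr : top.range = Subgroup.zpowers (u ^ 2 ^ k) :=
      le_antisymm (by rintro _ ⟨a, rfl⟩; exact hall a) (Subgroup.zpowers_le.2 ⟨u, rfl⟩)
    have ho : orderOf (u ^ 2 ^ k) = 2 := orderOf_eq_prime (htop2 u) hu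
    have hfix : σ (u ^ 2 ^ k) = u ^ 2 ^ k := by
      obtain ⟨i, hi⟩ := Subgroup.mem_zpowers_iff.1 (hall (σ u))
      rw [map_pow, ← hi]
      have hne : σ u ^ 2 ^ k ≠ 1 := fun e => hu (σ.injective (by rw [map_pow, e, map_one]))
      rw [← hi] at hne
      rcases Int.even_or_odd i with ⟨j, hj⟩ | ⟨j, hj⟩
      · exact absurd (by rw [hj, ← two_mul, zpow_mul, zpow_two, ← sq, (show (u ^ 2 ^ k) ^ 2 = 1 from htop2 u), one_zpow]) hne
      · rw [hj, zpow_add, zpow_one, zpow_mul, zpow_two, ← sq]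
        rw [show (u ^ 2 ^ k) ^ 2 = 1 from htop2 u, one_zpow, one_mul]
    refine hnof (top.comp (QuotientGroup.mk' C)) (fun x => ?_) ?_
    · show top ((δ x : S) : A) = top (x : A)
      obtain ⟨i, hi⟩ := Subgroup.mem_zpowers_iff.1 (hall (x : A))
      show ((δ x : S) : A) ^ 2 ^ k = (x : A) ^ 2 ^ k
      rw [← hσv, ← map_pow, ← hi, map_zpow, hfix]
    · rw [MonoidHom.range_comp, MonoidHom.range_eq_top.2 (QuotientGroup.mk'_surjective C),
        ← MonoidHom.range_eq_map, hr, Nat.card_zpowers, ho]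
  have hA : Nat.card A = (2 ^ (k + 1)) ^ 2 :=
    le_antisymm (card_le_sq (isMetacyclic_quot hm C) (by positivity) hexp) hpair.card
  have hnab : ∃ a b : S, a * b ≠ b * a := by
    by_contra hh'
    push Not at hh'
    have hbot : C = ⊥ := by
      rw [hC, commutator_def, Subgroup.commutator_eq_bot_iff_le_centralizer]
      exact fun a _ => Subgroup.mem_centralizer_iff.2 fun b _ => hh' b a
    haveI : NeZero (2 ^ (k + 1)) := ⟨by positivity⟩
    obtain ⟨e⟩ := hpair.equiv hA.le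
    exact hh (2 ^ (k + 1)) (Nat.le_self_pow (Nat.succ_ne_zero k) 2)
      ⟨((QuotientGroup.quotientBot (G := S)).symm.trans (QuotientGroup.quotientMulEquivOfEq hbot.symm)).trans e⟩
  rcases Nat.eq_zero_or_pos k with rfl | hk
  · exact hmax hnab (by rw [Subgroup.index_eq_card, hA]; norm_num)
  -- the minimal nonabelian quotient
  haveI := isCyclic_commutator hm
  obtain ⟨a0, b0, hab0⟩ := hnab
  have hCbot : C ≠ ⊥ := fun h => hab0 (commutatorElement_eq_one_iff_mul_comm.1 (Subgroup.mem_bot.1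
    (h ▸ Subgroup.commutator_mem_commutator (Subgroup.mem_top a0) (Subgroup.mem_top b0))))
  haveI : Nontrivial C := (Subgroup.nontrivial_iff_ne_bot C).2 hCbot
  obtain ⟨c, hc⟩ := IsCyclic.exists_generator (α := C)
  set C2 : Subgroup S := Subgroup.zpowers ((c : S) ^ 2) with hC2
  have hmem2 : ∀ x, x ∈ C2 ↔ ∃ d : C, (d : S) ^ 2 = x := fun x => by
    constructor
    · intro hx
      obtain ⟨i, rfl⟩ := Subgroup.mem_zpowers_iff.1 hx
      exact ⟨c ^ i, by rw [SubgroupClass.coe_zpow, ← zpow_natCast, ← zpow_natCast, ← zpow_mul, ← zpow_mul, mul_comm]⟩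
    · rintro ⟨d, rfl⟩
      obtain ⟨i, rfl⟩ := Subgroup.mem_zpowers_iff.1 (hc d)
      exact Subgroup.mem_zpowers_iff.2 ⟨i, by
        rw [SubgroupClass.coe_zpow, ← zpow_natCast, ← zpow_natCast, ← zpow_mul, ← zpow_mul, mul_comm]⟩
  haveI : C2.Characteristic := Subgroup.characteristic_iff_le_comap.2 fun α x hx => by
    obtain ⟨d, rfl⟩ := (hmem2 x).1 hx
    refine (hmem2 _).2 ⟨⟨α d, Subgroup.characteristic_iff_le_comap.1 inferInstance α d.2⟩, ?_⟩
    exact (map_pow α.toMonoidHom (d : S) 2).symm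
  set Q := S ⧸ C2
  set z : Q := ((c : S) : Q) with hz
  have hC2C : C2 ≤ C := Subgroup.zpowers_le.2 (C.pow_mem c.2 2)
  have hz2 : z ^ 2 = 1 := by
    rw [hz, ← QuotientGroup.mk_pow, QuotientGroup.eq_one_iff]; exact Subgroup.mem_zpowers _
  have hcC2 : (c : S) ∉ C2 := fun h => by
    obtain ⟨i, hi⟩ := Subgroup.mem_zpowers_iff.1 h
    have h1 : c ^ (2 * i - 1) = 1 := Subtype.ext (by
      rw [SubgroupClass.coe_zpow, zpow_sub_one, zpow_mul, zpow_two, ← sq, hi, mul_inv_cancel, OneMemClass.coe_one])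
    obtain ⟨n, hn⟩ := IsPGroup.iff_orderOf.1 (hS.to_subgroup C) c
    rw [← orderOf_dvd_iff_zpow_eq_one, hn] at h1
    rcases n with _ | n
    · have hc1 : c = 1 := orderOf_eq_one_iff.1 (by rw [hn, pow_zero])
      obtain ⟨d, hd⟩ := exists_ne (1 : C)
      obtain ⟨i, rfl⟩ := Subgroup.mem_zpowers_iff.1 (hc d)
      exact hd (by rw [hc1, one_zpow])
    · obtain ⟨j, hj⟩ : (2 : ℤ) ∣ 2 * i - 1 :=
        dvd_trans (dvd_pow_self (2 : ℤ) n.succ_ne_zero) (by exact_mod_cast h1)
      omega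
  have hzline : ∀ x : S, x ∈ C → (x : Q) ∈ Subgroup.zpowers z := fun x hx => by
    obtain ⟨i, hi⟩ := Subgroup.mem_zpowers_iff.1 (hc ⟨x, hx⟩)
    exact Subgroup.mem_zpowers_iff.2 ⟨i, by rw [hz, ← QuotientGroup.mk_zpow, ← SubgroupClass.coe_zpow, hi]⟩
  have hzcen : z ∈ Subgroup.center Q := by
    haveI : (Subgroup.zpowers z).Normal := ⟨fun x hx g => by
      obtain ⟨i, rfl⟩ := Subgroup.mem_zpowers_iff.1 hx
      rw [← conj_zpow]
      refine Subgroup.zpow_mem _ ?_ _
      obtain ⟨g, rfl⟩ := QuotientGroup.mk_surjective g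
      rw [hz, ← QuotientGroup.mk_inv, ← QuotientGroup.mk_mul, ← QuotientGroup.mk_mul]
      exact hzline _ (Subgroup.Normal.conj_mem inferInstance _ c.2 g)⟩
    exact CfsgLib.PLocalBasics.le_center_of_card_le (p := 2) (hS.to_quotient C2) inferInstance
      (by rw [Nat.card_zpowers]; exact orderOf_le_of_pow_eq_one two_pos hz2) (Subgroup.mem_zpowers z)
  set m := 2 ^ (k + 1) with hm'
  have hcomm : ∀ x y : Q, ⁅x, y⁆ ∈ Subgroup.center Q ∧ ⁅x, y⁆ ^ 2 = 1 := fun x y => by
    obtain ⟨x, rfl⟩ := QuotientGroup.mk_surjective x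
    obtain ⟨y, rfl⟩ := QuotientGroup.mk_surjective y
    have h1 : ((⁅x, y⁆ : S) : Q) ∈ Subgroup.zpowers z :=
      hzline _ (Subgroup.commutator_mem_commutator (Subgroup.mem_top x) (Subgroup.mem_top y))
    have h2 : ((⁅x, y⁆ : S) : Q) = ⁅(x : Q), (y : Q)⁆ := map_commutatorElement (QuotientGroup.mk' C2) x y
    rw [h2] at h1
    obtain ⟨i, hi⟩ := Subgroup.mem_zpowers_iff.1 h1
    refine ⟨hi ▸ (Subgroup.center Q).zpow_mem hzcen i, ?_⟩
    rw [← hi, ← zpow_natCast, ← zpow_mul, mul_comm, zpow_mul, zpow_natCast, hz2, one_zpow]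
  obtain ⟨j, hj⟩ : 2 ∣ m.choose 2 := by
    rw [hm', Nat.choose_two_right, pow_succ', mul_assoc, Nat.mul_div_cancel_left _ two_pos]
    exact dvd_mul_of_dvd_left (dvd_pow_self 2 hk.ne') _
  let f : Q →* Q := MonoidHom.mk' (fun x => x ^ m) fun x y => by
    rw [CfsgLib.PGroup.mul_pow_central (hcomm y x).1, hj, pow_mul, (hcomm y x).2, one_pow, mul_one]
  have hfz : ∀ x : Q, f x ∈ Subgroup.zpowers z := fun x => by
    obtain ⟨x, rfl⟩ := QuotientGroup.mk_surjective x
    show (x : Q) ^ m ∈ _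
    rw [← QuotientGroup.mk_pow]
    refine hzline _ ((QuotientGroup.eq_one_iff _).1 ?_)
    rw [QuotientGroup.mk_pow]
    exact hexp _
  set τ : MulAut Q := QuotientGroup.congr C2 C2 δ (Subgroup.characteristic_iff_map_eq.1 inferInstance δ)
  have hτz : τ z = z := by
    have h1 : τ z ∈ Subgroup.zpowers z := by
      show ((δ c : S) : Q) ∈ _
      exact hzline _ (Subgroup.characteristic_iff_le_comap.1 inferInstance δ c.2)
    obtain ⟨i, hi⟩ := Subgroup.mem_zpowers_iff.1 h1
    have hz1 : z ≠ 1 := fun e => hcC2 ((QuotientGroup.eq_one_iff _).1 e)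
    rcases Int.even_or_odd i with ⟨j, hj⟩ | ⟨j, hj⟩
    · exfalso
      refine hz1 (τ.injective ?_)
      rw [map_one, ← hi, hj, ← two_mul, zpow_mul, zpow_two, ← sq, hz2, one_zpow]
    · rw [← hi, hj, zpow_add, zpow_one, zpow_mul, zpow_two, ← sq, hz2, one_zpow, one_mul]
  have hQexp : ∀ x : Q, x ^ m = 1 := by
    by_contra hh'
    push Not at hh'
    obtain ⟨x, hx⟩ := hh'
    refine hnof (f.comp (QuotientGroup.mk' C2)) (fun y => ?_) ?_
    · show f ((δ y : S) : Q) = f (y : Q)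
      obtain ⟨i, hi⟩ := Subgroup.mem_zpowers_iff.1 (hfz (y : Q))
      have : f ((δ y : S) : Q) = τ (f (y : Q)) := (map_pow τ (y : Q) m).symm
      rw [this, ← hi, map_zpow, hτz]
    · have hz1 : z ≠ 1 := fun e => hcC2 ((QuotientGroup.eq_one_iff _).1 e)
      rw [MonoidHom.range_comp, MonoidHom.range_eq_top.2 (QuotientGroup.mk'_surjective C2), ← MonoidHom.range_eq_map]
      have hle : f.range ≤ Subgroup.zpowers z := by rintro _ ⟨a, rfl⟩; exact hfz a
      have hd := Subgroup.card_dvd_of_le hle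
      rw [Nat.card_zpowers, orderOf_eq_prime hz2 hz1] at hd
      refine ((Nat.dvd_prime Nat.prime_two).1 hd).resolve_left fun h1 => hx ?_
      have := Subgroup.eq_bot_of_card_eq f.range h1
      exact Subgroup.mem_bot.1 (this ▸ (⟨x, rfl⟩ : f x ∈ f.range))
  have h1 := card_le_sq (isMetacyclic_quot hm C2) (Nat.two_pow_pos (k + 1)) hQexp
  have h2 : C2.relIndex C ≠ 1 := fun h => hcC2 (Subgroup.relIndex_eq_one.1 h c.2)
  have h3 : C2.index = C2.relIndex C * C.index := (Subgroup.relIndex_mul_index hC2C).symm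
  have h4 : 2 ≤ C2.relIndex C := by
    have : C2.relIndex C ≠ 0 := Subgroup.index_ne_zero_of_finite
    omega
  rw [← Subgroup.index_eq_card, h3] at h1
  rw [show C.index = m ^ 2 from (Subgroup.index_eq_card C).trans hA] at h1
  have h5 : 0 < m ^ 2 := by positivity
  nlinarith

end CfsgLib.MetaAut
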