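import Cfsg.Agent.Fusion.Realized
import Cfsg.Agent.Fusion.NormalCriteria
import Cfsg.Agent.QDWr.QuasiDihedral

/-!
Systems carried along an isomorphism with a Sylow subgroup; fusion forced inner; semidihedral groups of equal order.
-/

set_option autoImplicit false
set_option linter.style.haveILetI false

namespace CfsgLib.MetaAut

open Cfsg Cfsg.FusionSystem CfsgLib.Fusion

universe u v

variable {Ω : Type u} [Group Ω] {S : Subgroup Ω} {G : Type v} [Group G]

/-- The system on `S` realised through `ι : S →* G`. -/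
def systemAlong (ι : S →* G) : Cfsg.FusionSystem S where
  Hom P := {φ | ∃ (hP : P ≤ S) (hφ : ∀ x : P, φ x ∈ S), Function.Injective φ ∧
    ∃ g : G, ∀ x : P, ι ⟨φ x, hφ x⟩ = g * ι ⟨x, hP x.2⟩ * g⁻¹}
  le_of_mem h := ⟨h.1, h.2.1⟩
  injective_of_mem h := h.2.2.1
  conj_mem := by
    intro P g hP hg
    refine ⟨hP, fun x => S.mul_mem (S.mul_mem hg (hP x.2)) (S.inv_mem hg), fun a b h => ?_, ι ⟨g, hg⟩, fun x => ?_⟩
    · exact Subtype.ext (mul_left_cancel (mul_right_cancel (h : g * (a : Ω) * g⁻¹ = g * (b : Ω) * g⁻¹)))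
    · rw [← map_inv, ← map_mul, ← map_mul]
      exact congrArg ι (Subtype.ext rfl)
  comp_mem := by
    rintro P Q φ ψ ⟨hP, hφS, hφi, g, hg⟩ ⟨hQ, hψS, hψi, k, hk⟩ h
    refine ⟨hP, fun x => hψS _, hψi.comp fun a b e => hφi (congrArg Subtype.val e), k * g, fun x => ?_⟩
    show ι ⟨ψ (φ.codRestrict Q h x), _⟩ = _
    rw [hk, show (⟨((φ.codRestrict Q h x : Q) : Ω), hQ (φ.codRestrict Q h x).2⟩ : S) = ⟨φ x, hφS x⟩ from rfl, hg,
      mul_inv_rev]
    simp only [mul_assoc]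
  inv_mem := by
    rintro P φ ⟨hP, hφS, hφi, g, hg⟩
    let e := MonoidHom.ofInjective hφi
    refine ⟨P.subtype.comp e.symm.toMonoidHom, ⟨by rintro _ ⟨x, rfl⟩; exact hφS x, fun y => hP (e.symm y).2,
      fun a b h => e.symm.injective (Subtype.ext h), g⁻¹, fun y => ?_⟩, fun x => ?_⟩
    · obtain ⟨x, rfl⟩ := e.surjective y
      have h1 : ((e.symm (e x) : P) : Ω) = x := by rw [MulEquiv.symm_apply_apply]
      have h2 : (⟨((e x : φ.range) : Ω), by exact hφS x⟩ : S) = ⟨φ x, hφS x⟩ := rfl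
      show ι ⟨((e.symm (e x) : P) : Ω), _⟩ = _
      rw [show (⟨((e.symm (e x) : P) : Ω), hP (e.symm (e x)).2⟩ : S) = ⟨x, hP x.2⟩ from Subtype.ext h1, h2, hg]
      group
    · show ((e.symm ⟨φ x, x, rfl⟩ : P) : Ω) = x
      rw [show (⟨φ x, x, rfl⟩ : φ.range) = e x from rfl, MulEquiv.symm_apply_apply]

lemma systemAlong_realized {ι : S →* G} (hι : Function.Injective ι) : (systemAlong ι).IsRealizedBy ι := by
  refine ⟨hι, fun P hP φ hφ => ⟨fun h => h.2.2.2, fun ⟨g, hg⟩ => ⟨hP, hφ, fun a b e => ?_, g, hg⟩⟩⟩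
  have h1 : ι ⟨φ a, hφ a⟩ = ι ⟨φ b, hφ b⟩ := congrArg ι (Subtype.ext e)
  rw [hg, hg] at h1
  exact Subtype.ext (congrArg (fun s : S => (s : Ω)) (hι (mul_left_cancel (mul_right_cancel h1))) :)

/-- With `S` normal and `Aut(S)` without nontrivial odd elements, all automisers are `2`-groups. -/
theorem orderOf_two_pow [Finite S] {F : Cfsg.FusionSystem S} (hN : F.IsNormal S)
    (hAut : ∀ δ : MulAut S, Odd (orderOf δ) → δ = 1) {P : Subgroup Ω} {α : MulAut P} (hα : α ∈ F.autGroup P)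
    (hPS : P ≤ S) (hodd : Odd (orderOf α)) : α = 1 := by
  haveI := finite_mulAut (S := S) (le_refl S)
  haveI := finite_mulAut (S := S) hPS
  obtain ⟨ψ, hψ, hag, -⟩ := hN.2 P _ ((mem_autGroup hPS).1 hα)
  have hres := restrict hψ (show S ≤ P ⊔ S from le_sup_right)
  have hinj := F.injective_of_mem hres
  have hr : (ψ.comp (Subgroup.inclusion (le_sup_right : S ≤ P ⊔ S))).range = S := by
    refine Subgroup.eq_of_le_of_card_ge (range_le hres) (le_of_eq ?_)
    exact Nat.card_congr (MonoidHom.ofInjective hinj).toEquiv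
  set β : MulAut S := isoOfHom hinj hr
  have hext : ∀ (n : ℕ) (x : P), (((β ^ n) ⟨x, hPS x.2⟩ : S) : Ω) = (((α ^ n) x : P) : Ω) := by
    intro n
    induction n with
    | zero => intro x; rfl
    | succ n ih =>
      intro x
      rw [pow_succ, pow_succ, MulAut.mul_apply, MulAut.mul_apply, ← ih]
      congr 2
      refine Subtype.ext ?_
      show ψ _ = _
      exact (congrArg ψ (Subtype.ext rfl)).trans (hag x)
  -- kill the odd part of `β`
  obtain ⟨k, m, hm, hkm⟩ := Nat.exists_eq_pow_mul_and_not_dvd (orderOf_pos β).ne' 2 (by norm_num)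
  have h1 : β ^ 2 ^ k = 1 := hAut _ (by
    rw [orderOf_pow' β (pow_ne_zero _ two_ne_zero), hkm, Nat.gcd_mul_right_left,
      Nat.mul_div_cancel_left _ (Nat.two_pow_pos k), ← Nat.not_even_iff_odd, even_iff_two_dvd]
    exact hm)
  have h2 : α ^ 2 ^ k = 1 := MulEquiv.ext fun x => Subtype.ext (by rw [← hext, h1]; rfl)
  exact orderOf_eq_one_iff.1 (Nat.eq_one_of_dvd_coprimes
    ((Nat.coprime_two_right.2 hodd).pow_right k) dvd_rfl (orderOf_dvd_of_pow_eq_one h2))

variable {H : Type v} [Group H] [Finite H]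

/-- A group with an element of order three moving a subgroup of a Sylow subgroup isomorphic to `S`. -/
theorem false_of_witness [Finite S] (T : Sylow 2 H) (e : S ≃* T) {I J w : H} (hI : I ∈ (T : Subgroup H))
    (hJ : J ∈ (T : Subgroup H)) (hw : w ^ 3 = 1) (hwI : w * I * w⁻¹ ∈ Subgroup.closure ({I, J} : Set H))
    (hwJ : w * J * w⁻¹ ∈ Subgroup.closure ({I, J} : Set H)) (hne : w * I * w⁻¹ ≠ I)
    (hres : ∀ F : Cfsg.FusionSystem S, F.IsSaturated 2 → F.IsNormal S)
    (hAut : ∀ δ : MulAut S, Odd (orderOf δ) → δ = 1) : False := by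
  haveI : Fact (Nat.Prime 2) := ⟨Nat.prime_two⟩
  set ι : S →* H := (T : Subgroup H).subtype.comp e.toMonoidHom with hιdef
  have hι : Function.Injective ι := (Subgroup.subtype_injective _).comp e.injective
  have hrange : ι.range = T := by
    rw [hιdef, MonoidHom.range_comp, MonoidHom.range_eq_top.2 e.surjective, ← MonoidHom.range_eq_map,
      Subgroup.range_subtype]
  set F := systemAlong ι
  have hR := systemAlong_realized hι
  have hF : F.IsSaturated 2 := isSaturated_of_realized hR T hrange.symm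
  set K := Subgroup.closure ({I, J} : Set H) with hK
  have hKT : K ≤ T := (Subgroup.closure_le _).2 (by rintro _ (rfl | rfl) <;> assumption)
  set P := preimageAlong ι K with hP
  have hPS : P ≤ S := preimageAlong_le K
  haveI := finite_mulAut (S := S) hPS
  have hconjK : ∀ x ∈ K, w * x * w⁻¹ ∈ K := fun x hx => by
    induction hx using Subgroup.closure_induction with
    | mem x hx => rcases hx with rfl | rfl <;> assumption
    | one => simpa using K.one_mem
    | mul x y _ _ ihx ihy =>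
      have := K.mul_mem ihx ihy
      rwa [show w * x * w⁻¹ * (w * y * w⁻¹) = w * (x * y) * w⁻¹ by group] at this
    | inv x _ ih =>
      have := K.inv_mem ih
      rwa [show (w * x * w⁻¹)⁻¹ = w * x⁻¹ * w⁻¹ by group] at this
  obtain ⟨φ, hφ, hφι⟩ := exists_hom_of_conj hR hPS w fun x => by
    rw [hrange]
    exact hKT (hconjK _ (mem_preimageAlong.1 x.2).2)
  have hmap : ∀ x, φ x ∈ P := fun x => mem_preimageAlong.2 ⟨val_mem hφ x, by
    rw [hφι]; exact hconjK _ (mem_preimageAlong.1 x.2).2⟩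
  haveI := finite_of_le hPS
  have hr : φ.range = P := Subgroup.eq_of_le_of_card_ge (by rintro _ ⟨x, rfl⟩; exact hmap x)
    (Nat.card_congr (MonoidHom.ofInjective (F.injective_of_mem hφ)).toEquiv).le
  set α : MulAut P := isoOfHom (F.injective_of_mem hφ) hr
  have hα : α ∈ F.autGroup P := mem_autGroup_of_eq hφ fun _ => rfl
  have hαn : ∀ (n : ℕ) (x : P), ι ⟨((α ^ n) x : P), hPS ((α ^ n) x).2⟩ = w ^ n * ι ⟨x, hPS x.2⟩ * (w ^ n)⁻¹ := by
    intro n
    induction n with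
    | zero => intro x; simp
    | succ n ih =>
      intro x
      have h1 : ι ⟨((α x : P) : Ω), hPS (α x).2⟩ = w * ι ⟨x, hPS x.2⟩ * w⁻¹ := hφι x _
      have h2 : (α ^ (n + 1)) x = (α ^ n) (α x) := by rw [pow_succ, MulAut.mul_apply]
      simp only [h2]
      rw [ih, h1, pow_succ, mul_inv_rev]
      simp only [mul_assoc]
  have h3 : α ^ 3 = 1 := MulEquiv.ext fun x => Subtype.ext (congrArg (fun s : S => (s : Ω)) (hι (a₁ := ⟨((α ^ 3) x : P), hPS ((α ^ 3) x).2⟩) (a₂ := ⟨x, hPS x.2⟩) (by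
    rw [hαn, hw, one_mul, inv_one, mul_one])) :)
  have hodd : Odd (orderOf α) := by
    rcases (Nat.dvd_prime Nat.prime_three).1 (orderOf_dvd_of_pow_eq_one h3) with e1 | e1 <;> rw [e1]
    · exact odd_one
    · exact by decide
  have hone := orderOf_two_pow (hres F hF) hAut hα hPS hodd
  obtain ⟨s, hs⟩ : ∃ s : S, ι s = I := (hrange.ge hI : I ∈ ι.range)
  have hsP : (s : Ω) ∈ P := mem_preimageAlong.2 ⟨s.2, by rw [hs]; exact Subgroup.subset_closure (Set.mem_insert _ _)⟩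
  refine hne ?_
  have h4 := hαn 1 ⟨s, hsP⟩
  rw [pow_one, hone] at h4
  rw [show (⟨(((1 : MulAut P) ⟨(s : Ω), hsP⟩ : P) : Ω), hPS ((1 : MulAut P) ⟨(s : Ω), hsP⟩).2⟩ : S) = s from rfl, hs,
    pow_one] at h4
  exact h4.symm

end CfsgLib.MetaAut

namespace CfsgLib.MetaAut

open CfsgLib.QDWr

/-- Two semidihedral presentations with the same parameter give isomorphic groups. -/
theorem qd_equiv {A B : Type*} [Group A] [Group B] [Finite A] [Finite B] {x y : A} {x' y' : B} {h : ℕ}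
    (d : QD x y h) (d' : QD x' y' h) : Nonempty (A ≃* B) := by
  let R : A → B → Prop := fun s t =>
    (∃ i : ℤ, s = x ^ i ∧ t = x' ^ i) ∨ ∃ i : ℤ, s = x ^ i * y ∧ t = x' ^ i * y'
  have hex : ∀ s, ∃ t, R s t := fun s => by
    rcases (CfsgLib.QDWr.cases d) s with ⟨i, rfl⟩ | ⟨i, rfl⟩
    · exact ⟨x' ^ i, .inl ⟨i, rfl, rfl⟩⟩
    · exact ⟨x' ^ i * y', .inr ⟨i, rfl, rfl⟩⟩
  have huniq : ∀ {s t t'}, R s t → R s t' → t = t' := by
    rintro s t t' (⟨i, rfl, rfl⟩ | ⟨i, rfl, rfl⟩) (⟨j, hj, rfl⟩ | ⟨j, hj, rfl⟩)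
    · exact (zpow_eq d').2 ((zpow_eq d).1 hj)
    · exact absurd hj.symm (refl_ne_zpow d j i)
    · exact absurd hj (refl_ne_zpow d i j)
    · rw [(zpow_eq d').2 ((zpow_eq d).1 (mul_right_cancel hj))]
  choose f hf using hex
  have hmul : ∀ a b, f (a * b) = f a * f b := by
    intro a b
    refine huniq (hf (a * b)) ?_
    rcases hf a with ⟨i, ha, ha'⟩ | ⟨i, ha, ha'⟩ <;> rcases hf b with ⟨j, hb, hb'⟩ | ⟨j, hb, hb'⟩ <;>
      rw [ha', hb', ha, hb]
    · exact .inl ⟨i + j, (zpow_add x i j).symm, (zpow_add x' i j).symm⟩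
    · exact .inr ⟨i + j, by rw [← mul_assoc, ← zpow_add], by rw [← mul_assoc, ← zpow_add]⟩
    · exact .inr ⟨_, (refl_mul d i j), (refl_mul d' i j)⟩
    · exact .inl ⟨_, (refl_refl d i j), (refl_refl d' i j)⟩
  have hsurj : Function.Surjective f := fun t => by
    rcases (CfsgLib.QDWr.cases d') t with ⟨i, rfl⟩ | ⟨i, rfl⟩
    · exact ⟨x ^ i, huniq (hf _) (.inl ⟨i, rfl, rfl⟩)⟩
    · exact ⟨x ^ i * y, huniq (hf _) (.inr ⟨i, rfl, rfl⟩)⟩
  exact ⟨MulEquiv.ofBijective (MonoidHom.mk' f hmul)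
    (hsurj.bijective_of_nat_card_le (by rw [d.card, d'.card]))⟩

end CfsgLib.MetaAut
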